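import Mathlib
import Groth.Agent.CAlgSmall.NormUH

/-!
# Normalization in a purely inseparable extension of the function field of a geometrically unibranch
integral scheme is a universal homeomorphism
-/

set_option autoImplicit false
set_option linter.style.haveILetI false
set_option backward.isDefEq.respectTransparency.types false

universe u

namespace Groth.Agent.NormH3.PurelyInsep

open CategoryTheory CategoryTheory.Limits AlgebraicGeometry TopologicalSpace IsLocalRing
open Groth.Agent.NormalizationLib

/-- Radiciality passes from `A → C` to `A → B` when `B` has `q`-power exponents over `C` inside fields. -/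
theorem rad_of_pow_mem {A C B L : Type u} [CommRing A] [CommRing C] [CommRing B] [Field L] (q : ℕ) [ExpChar L q]
    (a : A →+* C) (h : C →+* B) (σ : B →+* L) (hσ : Function.Injective σ) (ha : UnivHomeo.Rad a)
    (hb : ∀ b : B, ∃ n : ℕ, b ^ q ^ n ∈ h.range) : UnivHomeo.Rad (h.comp a) := by
  intro F _ g₁ g₂ hg
  have hh : g₁.comp h = g₂.comp h := ha F _ _ (by rw [RingHom.comp_assoc, RingHom.comp_assoc, hg])
  ext b
  obtain ⟨n, c, hc⟩ := hb b
  have e : g₁ b ^ q ^ n = g₂ b ^ q ^ n := by
    rw [← map_pow, ← map_pow, ← hc]
    exact DFunLike.congr_fun hh c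
  rcases ‹ExpChar L q› with _ | ⟨hp⟩
  · simpa using e
  · have hB : ((q : ℕ) : B) = 0 := hσ (by rw [map_natCast, map_zero]; exact CharP.cast_eq_zero L q)
    haveI : Fact q.Prime := ⟨hp⟩
    haveI : CharP F q := by
      refine (CharP.charP_iff_prime_eq_zero hp).mpr ?_
      rw [← map_natCast g₁, hB, map_zero]
    haveI : ExpChar F q := ExpChar.prime hp
    exact (iterateFrobenius F q n).injective (by simpa [iterateFrobenius_def] using e)

theorem universallyInjective_restrict_iff {X Y : Scheme.{u}} (f : X ⟶ Y) [IsAffineHom f] {U : Y.Opens}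
    (hU : IsAffineOpen U) :
    UniversallyInjective (f ∣_ U) ↔ UnivHomeo.Rad (f.app U).hom := by
  have hV : IsAffineOpen (f ⁻¹ᵁ U) := hU.preimage f
  rw [UnivHomeo.rad_iff]
  refine MorphismProperty.arrow_mk_iso_iff @UniversallyInjective (Iso.symm (Arrow.isoMk hV.isoSpec.symm hU.isoSpec.symm ?_))
  show hV.isoSpec.inv ≫ (f ∣_ U) = Spec.map (CommRingCat.ofHom (f.app U).hom) ≫ hU.isoSpec.inv
  rw [← cancel_mono U.ι, Category.assoc, morphismRestrict_ι, Category.assoc, IsAffineOpen.isoSpec_inv_ι,
    ← Category.assoc, IsAffineOpen.isoSpec_inv_ι, ← IsAffineOpen.SpecMap_appLE_fromSpec f hU hV le_rfl,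
    Scheme.Hom.app_eq_appLE]
  rfl

variable {X : Scheme.{u}} [AlgebraicGeometry.IsIntegral X]
  [QuasiCompact (X.fromSpecStalk (genericPoint X))] [QuasiSeparated (X.fromSpecStalk (genericPoint X))]

theorem isUnivHomeo_fromNormalization (hX : ∀ x : X, CAlg2.IsGeomUnibranch (X.presheaf.stalk x))
    {L : Type u} [Field L] [Algebra X.functionField L] [IsPurelyInseparable X.functionField L]
    (g : Spec (CommRingCat.of L) ⟶ X) [QuasiCompact g] [QuasiSeparated g]
    (hg : g = Spec.map (CommRingCat.ofHom (algebraMap X.functionField L)) ≫ X.fromSpecStalk (genericPoint X)) :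
    FlatMor.IsUnivHomeo g.fromNormalization := by
  let φ : X.functionField →+* L := algebraMap X.functionField L
  have hφ : g = Spec.map (CommRingCat.ofHom φ) ≫ X.fromSpecStalk (genericPoint X) := hg
  have hν := CAlgSmall.NormUH.universallyInjective X hX
  haveI : IsIntegralHom (Curv2.normalizationι X) := inferInstanceAs (IsIntegralHom (X.fromSpecStalk (genericPoint X)).fromNormalization)
  obtain ⟨q, hq⟩ := ExpChar.exists X.functionField
  haveI := hq
  haveI : ExpChar L q := expChar_of_injective_ringHom φ.injective q
  haveI : UniversallyInjective g.fromNormalization := by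
    refine (IsZariskiLocalAtTarget.iff_of_iSup_eq_top (P := @UniversallyInjective)
      (fun U : X.affineOpens => (U : X.Opens)) (iSup_affineOpens_eq_top X)).mpr ?_
    rintro ⟨U, hU⟩
    rcases isEmpty_or_nonempty U with hU0 | hU0
    · haveI : IsEmpty (g.fromNormalization ⁻¹ᵁ U).toScheme := ⟨fun z => hU0.false ⟨_, z.2⟩⟩
      infer_instance
    refine (universallyInjective_restrict_iff _ hU).2 ?_
    have hC : UnivHomeo.Rad ((Curv2.normalizationι X).app U).hom :=
      (universallyInjective_restrict_iff _ hU).1 (IsZariskiLocalAtTarget.restrict hν U)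
    let φK : X.functionField →+* X.functionField := RingHom.id _
    have hgK := VarietyLib.NormStalk.hg X
    let nB := (normToK φ g hφ U hU).hom
    let nC := (normToK φK (X.fromSpecStalk (genericPoint X)) hgK U hU).hom
    have hnB : Function.Injective nB := injective_normToK φ g hφ U hU
    have hmem : ∀ c, ∃ b, nB b = φ (nC c) := fun c => by
      obtain ⟨p, hp, hpc⟩ := (mem_range_normToK φK (X.fromSpecStalk (genericPoint X)) hgK U hU _).1 ⟨c, rfl⟩
      refine (mem_range_normToK φ g hφ U hU _).2 ⟨p, hp, ?_⟩
      have h := congrArg φ hpc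
      rw [map_zero, Polynomial.hom_eval₂] at h
      exact h
    choose hf hhf using hmem
    let h : _ →+* _ :=
      { toFun := hf
        map_one' := hnB (by rw [hhf, map_one, map_one, map_one])
        map_mul' := fun a b => hnB (by rw [hhf, map_mul, map_mul, map_mul, hhf, hhf])
        map_zero' := hnB (by rw [hhf, map_zero, map_zero, map_zero])
        map_add' := fun a b => hnB (by rw [hhf, map_add, map_add, map_add, hhf, hhf]) }
    have hcomp : h.comp ((Curv2.normalizationι X).app U).hom = (g.fromNormalization.app U).hom := by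
      refine RingHom.ext fun a => hnB ?_
      refine (hhf _).trans ?_
      refine ((congrArg φ (normToK_fromNormalization φK (X.fromSpecStalk (genericPoint X)) hgK U hU a)).trans ?_).trans
        (normToK_fromNormalization φ g hφ U hU a).symm
      rfl
    rw [← hcomp]
    refine rad_of_pow_mem q _ h nB hnB hC fun b => ?_
    obtain ⟨n, x, hx⟩ := IsPurelyInseparable.pow_mem X.functionField q (nB b)
    obtain ⟨p, hp, hpb⟩ := (mem_range_normToK φ g hφ U hU _).1 ⟨b ^ q ^ n, rfl⟩
    have hx' : nB (b ^ q ^ n) = φ x := by rw [map_pow]; exact hx.symm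
    obtain ⟨c, hc⟩ := (mem_range_normToK φK (X.fromSpecStalk (genericPoint X)) hgK U hU x).2
      ⟨p, hp, φ.injective (by
        rw [map_zero, Polynomial.hom_eval₂]
        refine Eq.trans ?_ hpb
        congr 1
        exact hx'.symm)⟩
    exact ⟨n, c, hnB ((hhf c).trans ((congrArg φ hc).trans hx'.symm))⟩
  haveI : Surjective g.fromNormalization := by
    refine ⟨fun x => ?_⟩
    have h1 : genericPoint X ∈ Set.range g.fromNormalization :=
      ⟨_, fromNormalization_genericPoint φ g hφ⟩
    exact (genericPoint_specializes x).mem_closed g.fromNormalization.isClosedMap.isClosed_range h1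
  exact UnivHomeo.isUnivHomeo_of_integral_univInjective_surjective _

end Groth.Agent.NormH3.PurelyInsep
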